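import Mathlib

/-! Dimension of the space of binary forms. -/

universe u

open MvPolynomial

namespace Groth.BinForms

variable (K : Type u) [Field K]

/-- Exponents of binary forms of degree `d`. -/
noncomputable def expEquiv (d : ℕ) : Fin (d + 1) ≃ {s : Fin 2 →₀ ℕ | s.degree = d} where
  toFun i := ⟨Finsupp.equivFunOnFinite.symm ![(i : ℕ), d - i], by
    show Finsupp.degree _ = d
    rw [Finsupp.degree_eq_sum, Fin.sum_univ_two]
    simp
    omega⟩
  invFun s := ⟨s.1 0, by
    have h := s.2
    simp only [Set.mem_setOf_eq, Finsupp.degree_eq_sum, Fin.sum_univ_two] at h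
    omega⟩
  left_inv i := by ext; simp
  right_inv s := by
    have h := s.2
    simp only [Set.mem_setOf_eq, Finsupp.degree_eq_sum, Fin.sum_univ_two] at h
    apply Subtype.ext
    ext j
    fin_cases j
    · simp
    · simp; omega

theorem finrank_homogeneous (d : ℕ) :
    Module.finrank K (homogeneousSubmodule (Fin 2) K d) = d + 1 := by
  have e : (homogeneousSubmodule (Fin 2) K d) = restrictSupport K {s : Fin 2 →₀ ℕ | s.degree = d} :=
    homogeneousSubmodule_eq_finsupp_supported (σ := Fin 2) (R := K) d
  rw [(LinearEquiv.ofEq _ _ e).finrank_eq,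
    Module.finrank_eq_card_basis ((basisRestrictSupport K _).reindex (expEquiv d).symm),
    Fintype.card_fin]

instance finite_homogeneous (d : ℕ) : Module.Finite K (homogeneousSubmodule (Fin 2) K d) :=
  Module.finite_of_finrank_eq_succ (finrank_homogeneous K d)

/-- Multiplication of forms, read in the quotient by a space of forms. -/
noncomputable def pairing (a b n : ℕ) (h : a + b = n)
    (U : Submodule K (homogeneousSubmodule (Fin 2) K n)) :
    homogeneousSubmodule (Fin 2) K a →ₗ[K] homogeneousSubmodule (Fin 2) K b →ₗ[K]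
      (homogeneousSubmodule (Fin 2) K n ⧸ U) :=
  LinearMap.mk₂ K
    (fun x y => U.mkQ ⟨(x : MvPolynomial (Fin 2) K) * y, h ▸ (x.2.mul y.2)⟩)
    (fun x x' y => by rw [← map_add]; congr 1; exact Subtype.ext (add_mul _ _ _))
    (fun c x y => by rw [← map_smul]; congr 1; exact Subtype.ext (smul_mul_assoc _ _ _))
    (fun x y y' => by rw [← map_add]; congr 1; exact Subtype.ext (mul_add _ _ _))
    (fun c x y => by rw [← map_smul]; congr 1; exact Subtype.ext (mul_smul_comm _ _ _))

theorem pairing_eq_zero_iff {a b n : ℕ} (h : a + b = n)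
    (V : Submodule K (MvPolynomial (Fin 2) K))
    (x : homogeneousSubmodule (Fin 2) K a) (y : homogeneousSubmodule (Fin 2) K b) :
    pairing K a b n h (V.comap (homogeneousSubmodule (Fin 2) K n).subtype) x y = 0 ↔
      (x : MvPolynomial (Fin 2) K) * y ∈ V := by
  simp [pairing]

theorem finrank_quot {n : ℕ} (V : Submodule K (MvPolynomial (Fin 2) K))
    (hV : V ≤ homogeneousSubmodule (Fin 2) K n) :
    Module.finrank K
        (homogeneousSubmodule (Fin 2) K n ⧸ V.comap (homogeneousSubmodule (Fin 2) K n).subtype) +
      Module.finrank K V = n + 1 := by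
  rw [← (Submodule.comapSubtypeEquivOfLe hV).finrank_eq, Submodule.finrank_quotient_add_finrank,
    finrank_homogeneous]

end Groth.BinForms
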