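import Mathlib

/-! A binary form over an algebraically closed field has a linear factor. -/

set_option autoImplicit false

universe u

open MvPolynomial

namespace Groth.BinForms

variable {K : Type u} [Field K]

theorem aeval_scaled {B : Type*} [CommRing B] [Algebra K B] {g : MvPolynomial (Fin 2) K} {d : ℕ}
    (hg : g.IsHomogeneous d) (v : Fin 2 → K) (z : B) :
    aeval (fun i => algebraMap K B (v i) * z) g = algebraMap K B (eval v g) * z ^ d := by
  rw [g.as_sum, map_sum, map_sum, map_sum, Finset.sum_mul]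
  refine Finset.sum_congr rfl fun s hs => ?_
  have hd : s 0 + s 1 = d := by
    have := hg (mem_support_iff.1 hs)
    simpa [Finsupp.weight_apply, Finsupp.sum_fintype, Fin.sum_univ_two] using this
  rw [aeval_monomial, eval_monomial, map_mul, Finsupp.prod_fintype _ _ (fun i => pow_zero _),
    Finsupp.prod_fintype _ _ (fun i => pow_zero _), Fin.prod_univ_two, Fin.prod_univ_two, map_mul, map_pow,
    map_pow, mul_pow, mul_pow, ← hd, pow_add]
  ring

theorem eq_zero_of_eval_chart [Infinite K] {h : MvPolynomial (Fin 2) K} {d : ℕ} (hh : h.IsHomogeneous d)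
    (h0 : ∀ t, eval ![t, 1] h = 0) : h = 0 := by
  have : h * X 1 = 0 := MvPolynomial.funext fun v => by
    by_cases hv : v 1 = 0
    · simp [hv]
    · have e := aeval_scaled hh ![v 0 / v 1, 1] (v 1)
      have hv' : (fun i => algebraMap K K (![v 0 / v 1, 1] i) * v 1) = v := by
        funext i; fin_cases i <;> simp [hv]
      rw [hv', h0, map_zero, zero_mul] at e
      rw [map_mul, map_zero, show eval v h = aeval v h by rw [aeval_eq_eval], e, zero_mul]
  exact (mul_eq_zero.1 this).resolve_right (X_ne_zero 1)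

theorem dvd_of_root {g : MvPolynomial (Fin 2) K} {d : ℕ} (hg : g.IsHomogeneous d) {x : K}
    (hx : eval ![x, 1] g = 0) : (X 0 - C x * X 1 : MvPolynomial (Fin 2) K) ∣ g := by
  rw [← Ideal.mem_span_singleton, ← Ideal.Quotient.eq_zero_iff_mem]
  let I := Ideal.span {(X 0 - C x * X 1 : MvPolynomial (Fin 2) K)}
  let z : MvPolynomial (Fin 2) K ⧸ I := Ideal.Quotient.mkₐ K I (X 1)
  have h : Ideal.Quotient.mkₐ K I = aeval (fun i => algebraMap K _ (![x, 1] i) * z) := by
    refine MvPolynomial.algHom_ext fun i => ?_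
    rw [aeval_X]
    fin_cases i
    · have : Ideal.Quotient.mkₐ K I (X 0) = Ideal.Quotient.mkₐ K I (C x * X 1) :=
        Ideal.Quotient.eq.2 (Ideal.mem_span_singleton_self _)
      simp [this, z]
      rfl
    · simp [z]
  change Ideal.Quotient.mkₐ K I g = 0
  rw [h, aeval_scaled hg, hx, map_zero, zero_mul]

theorem exists_linear_dvd [IsAlgClosed K] {g : MvPolynomial (Fin 2) K} {d : ℕ} (hd : 0 < d)
    (hg : g.IsHomogeneous d) :
    ∃ l : MvPolynomial (Fin 2) K, l.IsHomogeneous 1 ∧ l ∣ g := by
  classical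
  by_cases hr : ∃ x, eval ![x, 1] g = 0
  · obtain ⟨x, hx⟩ := hr
    exact ⟨_, (isHomogeneous_X K 0).sub ((isHomogeneous_X K 1).C_mul x),
      dvd_of_root hg hx⟩
  · push Not at hr
    let p : Polynomial K := aeval ![Polynomial.X, 1] g
    have hp : ∀ t, p.eval t = eval ![t, 1] g := by
      intro t
      rw [← Polynomial.coe_evalRingHom, ← aeval_eq_eval]
      change (Polynomial.aeval t).comp (aeval ![Polynomial.X, 1]) g = _
      congr 1
      refine MvPolynomial.algHom_ext fun i => ?_
      fin_cases i <;> simp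
    have hp0 : p.degree ≤ 0 := by
      by_contra h
      obtain ⟨t, ht⟩ := IsAlgClosed.exists_root p fun e => h e.le
      exact hr t (by rw [← hp]; exact ht)
    refine ⟨X 1, isHomogeneous_X K 1, ?_⟩
    obtain ⟨d, rfl⟩ : ∃ d', d = d' + 1 := ⟨d - 1, by omega⟩
    refine ⟨C (p.coeff 0) * X 1 ^ d, ?_⟩
    have hh : g - C (p.coeff 0) * X 1 ^ (d + 1) = 0 := by
      refine eq_zero_of_eval_chart (hg.sub (isHomogeneous_C_mul_X_pow _ _ _)) fun t => ?_
      rw [map_sub, ← hp, Polynomial.eq_C_of_degree_le_zero hp0]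
      simp
    rw [sub_eq_zero.1 hh]
    ring

theorem exists_homogeneous_cofactor {g l : MvPolynomial (Fin 2) K} {d : ℕ} (hg : g.IsHomogeneous (d + 1))
    (hl : l.IsHomogeneous 1) (h : l ∣ g) : ∃ q : MvPolynomial (Fin 2) K, q.IsHomogeneous d ∧ g = q * l := by
  classical
  obtain ⟨q, rfl⟩ := h
  refine ⟨homogeneousComponent d q, homogeneousComponent_isHomogeneous d q, ?_⟩
  conv_lhs => rw [← ((homogeneousComponent_of_mem ((mem_homogeneousSubmodule _ _).2 hg)).trans (if_pos rfl) :
    homogeneousComponent (d + 1) (l * q) = l * q)]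
  conv_lhs => rw [← sum_homogeneousComponent q, Finset.mul_sum, map_sum]
  have hc : ∀ j, homogeneousComponent (d + 1) (l * homogeneousComponent j q) =
      if j = d then l * homogeneousComponent j q else 0 := fun j => by
    have hm : (l * homogeneousComponent j q).IsHomogeneous (1 + j) :=
      hl.mul (homogeneousComponent_isHomogeneous j q)
    rw [homogeneousComponent_of_mem ((mem_homogeneousSubmodule _ _).2 hm)]
    simp only [eq_comm (a := d + 1), add_comm 1 j, add_left_inj]
  simp only [hc, Finset.sum_ite_eq', Finset.mem_range]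
  split_ifs with hj
  · rw [mul_comm]
  · rw [homogeneousComponent_eq_zero _ _ (by omega), zero_mul]

end Groth.BinForms
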